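/-
Tables: the coordinatewise field automorphism and witnesses for the finite checks on pairs of commuting
involutions fixing a singular vector.
-/
import Mathlib.Init

set_option autoImplicit false

namespace CfsgLib.Fi22Cent

/-- The code of the coordinatewise field automorphism. -/
def sigC : Nat := 13853125299270845185

/-- Elements moving fixed vectors of the involutions. -/
def movW : List (Nat × Nat) :=
  [(0, 3), (1, 40), (0, 1), (1, 18), (1, 58), (1, 16), (0, 66), (0, 2),
    (0, 65), (1, 36), (1, 42), (1, 46)]

/-- For each involution, indices of elements whose displacements complete the fixed space. -/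
def movI : List (List Nat) :=
  [[0, 1], [], [], [2, 3], [], [2, 4], [], [2, 5],
    [6, 1], [2, 7], [], [], [], [], [8, 5], [],
    [], [], [8, 4], [], [], [], [8, 3], [],
    [], [], [], [], [], [], [], [],
    [], [], [], [6, 1], [], [], [6, 9], [],
    [6, 10], [], [6, 11], [], [], [], [], [],
    [], [], [], [], [], [], [], [],
    [], [], [], [], [], [], [], [],
    [], [], [], [], [], [], [], [],
    [], [], []]

/-- Elements of order three for the lifting argument. -/
def witW : List (Nat × Nat) :=
  [(2, 179), (2, 159), (2, 139), (2, 165), (110, 145), (106, 134), (14, 181), (108, 57),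
    (104, 101), (12, 158), (78, 179), (74, 42), (10, 12), (76, 129), (72, 3), (8, 95),
    (46, 28), (42, 111), (6, 74)]

end CfsgLib.Fi22Cent
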