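/-
The unitary group extended by the field automorphism, the stabiliser of the first singular vector, and the
finite checks on commuting involutions in it.
-/
import Cfsg.Agent.Lib.U6Rec.Group
import Cfsg.Agent.Lib.Fi22Cent.Data
import Cfsg.Agent.Lib.Fi22Cent.Hints

set_option autoImplicit false
set_option maxRecDepth 100000

namespace CfsgLib.Fi22Cent

open U6Rec

/-- Membership in the extended group. -/
def InX (g : ℕ) : Prop := InU g ∨ ∃ u, InU u ∧ g = comp u sigC

/-- The stabiliser of the first vector. -/
def St : List ℕ := stL ++ stL.map fun g => comp g sigC

/-- Its involutions. -/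
def invS : List ℕ := St.filter fun g => !Nat.beq g one && Nat.beq (comp g g) one

/-- The fixed vectors. -/
def fixL (g : ℕ) : List ℕ := (List.range 256).filter fun v => Nat.beq (app g v) v

/-- The span of a list under exclusive or. -/
def spanL (l : List ℕ) : List ℕ := l.foldl (fun S g => bif S.elem g then S else S ++ S.map (· ^^^ g)) [0]

/-- The commutators of the basis. -/
def commGens (g : ℕ) : List ℕ := (List.range 8).map fun i => (1 <<< i) ^^^ app g (1 <<< i)

/-- A witness element. -/
def wit (i : ℕ) : ℕ := elt (witW.getD i (0, 0))

/-- A moving element. -/
def mov (i : ℕ) : ℕ := elt (movW.getD i (0, 0))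

/-- The scalar moving the first vector. -/
def scal : ℕ := elt (1, 56)

/-- A hinted contradiction: a singular displacement of `y` moved by `a`; two vectors fixed by `y` generating
two classes moved by `a`; or an element of order three centralising `y` whose product with `a` is an involution. -/
def hintBad (a y : ℕ) (t v w : ℕ) : Bool :=
  (Nat.beq t 1 && Nat.blt v 256 && Nat.beq (qf (v ^^^ app y v)) 0 && !Nat.beq (app a (v ^^^ app y v)) (v ^^^ app y v)) ||
  (Nat.beq t 3 && Nat.blt v 256 && Nat.blt w 256 && Nat.beq (app y v) v && Nat.beq (app y w) w &&
    !Nat.beq (app a v) v && !Nat.beq (app a w) w && !Nat.beq (app a (v ^^^ w)) (v ^^^ w)) ||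
  (Nat.beq t 5 && Nat.blt v 19 && Nat.beq (fixL y).length 16 &&
    let m := comp a (comp (wit v) (comp a (comp (wit v) (wit v))))
    Nat.beq (comp (wit v) y) (comp y (wit v)) && !Nat.beq m one && Nat.beq (comp m m) one)

/-- The hinted check of a pair. -/
def pairBad (a b h : ℕ) : Bool :=
  let t := h % 8
  let v := h / 8 % 256
  let w := h / 2048
  bif Nat.beq (t % 2) 1 then hintBad a b t v w else hintBad a (comp a b) (t - 1) v w

theorem pair_table : ((List.range invS.length).all fun i => (List.range invS.length).all fun j =>
    let a := invS.getD i one
    let b := invS.getD j one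
    Nat.beq a b || !Nat.beq (comp a b) (comp b a) || pairBad a b ((pairH.getD i []).getD j 0)) = true := by
  decide +kernel

theorem wit_three : ((List.range 19).all fun i =>
    decide ((witW.getD i (0, 0)).1 < 135) && decide ((witW.getD i (0, 0)).2 < 192) &&
      Nat.beq (comp (wit i) (comp (wit i) (wit i))) one) = true := by decide +kernel

theorem mov_ok : ((List.range 12).all fun i =>
    decide ((movW.getD i (0, 0)).1 < 135) && decide ((movW.getD i (0, 0)).2 < 192)) = true := by decide +kernel

theorem scal_ok : Nat.beq (comp scal (comp scal scal)) one = true ∧ Nat.beq (comp scal (tv 1)) (comp (tv 1) scal) = true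
    ∧ app scal 1 ≠ 1 := by decide +kernel

theorem fix_sizes : (invS.all fun b => Nat.beq (fixL b).length 64 ||
    (Nat.beq (fixL b).length 16 && (fixL b).all fun v => (spanL (commGens b)).elem v)) = true := by decide +kernel

/-- The moving elements commute with the involution, and their displacements complete the fixed space. -/
theorem mov_span : ((List.range invS.length).all fun n =>
    let b := invS.getD n one
    let hs := movI.getD n []
    (hs.all fun i => Nat.blt i 12 && Nat.beq (comp (mov i) b) (comp b (mov i))) &&
      let S := spanL (commGens b ++ hs.flatMap fun i => (fixL b).map fun v => v ^^^ app (mov i) v)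
      (fixL b).all fun v => S.elem v) = true := by decide +kernel

/-- A transvection at the first vector: no element of order three preserves a proper subspace. -/
theorem tv_three_span : (invS.all fun b => !Nat.beq (fixL b).length 64 || !(spanL (commGens b)).elem 1 ||
    (Nat.beq b (tv 1) && St.all fun k => !Nat.beq (comp k (comp k k)) one || Nat.beq k one ||
      !Nat.beq (comp k b) (comp b k) ||
      let S := spanL (commGens b ++ (fixL b).map fun v => v ^^^ app k v)
      (fixL b).all fun v => S.elem v)) = true := by decide +kernel

/-- Otherwise the stabiliser in the centraliser is small. -/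
theorem off_small : (invS.all fun b => !Nat.beq (fixL b).length 64 || (spanL (commGens b)).elem 1 ||
    Nat.blt (St.countP fun k => Nat.beq (comp k b) (comp b k)) 192) = true := by decide +kernel

theorem st_count : St.length = 384 := by decide +kernel

theorem sigC_facts : (∀ v < 256, qf (app sigC v) = qf v) ∧ app sigC 1 = 1 ∧ comp sigC one = sigC ∧
    (∀ v < 256, app sigC (app sigC v) = v) := by decide +kernel

end CfsgLib.Fi22Cent
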